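import Cfsg.Agent.Lib.LEN.Defs
import Cfsg.Agent.Lib.Perm75.MinDeg

set_option autoImplicit false
set_option linter.unusedSectionVars false
set_option linter.unusedVariables false

namespace H98.LEN
open Finset MulAction Equiv

namespace SEP
open H75

theorem card_le {G Ω : Type} [Group G] [MulAction G Ω] [Finite G] [Fintype Ω] [DecidableEq Ω]
    (hG : IsPreprimitive G Ω) (h2 : ¬ IsMultiplyPretransitive G Ω 2) {g : G} {a : Ω}
    (ha : g • a ≠ a) {m : ℕ} (h0 : (sepSet G a (g • a)).card ≤ m) :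
    Fintype.card Ω ≤ (2 * m + 1) ^ 2 := by
  classical
  let r : Ω → Ω → Prop := fun x y =>
    ∃ h : G, (h • a = x ∧ h • g • a = y) ∨ (h • a = y ∧ h • g • a = x)
  have hinv : ∀ (k : G) x y, r x y → r (k • x) (k • y) := by
    rintro k x y ⟨h, ⟨rfl, rfl⟩ | ⟨rfl, rfl⟩⟩
    · exact ⟨k * h, Or.inl ⟨mul_smul _ _ _, mul_smul _ _ _⟩⟩
    · exact ⟨k * h, Or.inr ⟨mul_smul _ _ _, mul_smul _ _ _⟩⟩
  have hsymm : ∀ x y, r x y → r y x := fun x y ⟨h, hh⟩ => ⟨h, hh.symm⟩
  have hr0 : r a (g • a) := ⟨1, Or.inl ⟨one_smul _ _, one_smul _ _⟩⟩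
  have hrm : ∀ x y, r x y → (sepSet G x y).card ≤ m := by
    rintro x y ⟨h, ⟨rfl, rfl⟩ | ⟨rfl, rfl⟩⟩
    · rwa [card_sepSet_smul]
    · rwa [sepSet_comm, card_sepSet_smul]
  let R2 : Ω → Prop := fun y => a = y ∨ r a y ∨ ∃ z, r a z ∧ r z y
  have hR2 : ∀ y, R2 y → (sepSet G a y).card ≤ 2 * m := by
    rintro y (rfl | h | ⟨z, h1, h2⟩)
    · simp [sepSet_self]
    · have := hrm _ _ h; omega
    · have := card_sepSet_le (G := G) a z y
      have := hrm _ _ h1
      have := hrm _ _ h2
      omega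
  by_cases hall : ∀ w y, R2 w → r w y → R2 y
  · have h1 : ∀ y, (sepSet G a y).card ≤ 2 * m := fun y =>
      hR2 y (closed_of_isPreprimitive hG r hinv hr0 ha.symm R2 hall (Or.inl rfl) y)
    have h3 : ∑ c : Ω, (univ.filter fun y => c ∈ sepSet G a y).card = ∑ y, (sepSet G a y).card := by
      simp only [card_filter]
      rw [sum_comm]
      refine sum_congr rfl fun y _ => ?_
      rw [← card_filter, filter_mem_eq_inter, univ_inter]
    obtain ⟨c, -, hc⟩ := exists_le_of_sum_le (s := (univ : Finset Ω)) ⟨a, mem_univ _⟩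
      (f := fun c => (univ.filter fun y => c ∈ sepSet G a y).card) (g := fun _ => 2 * m)
      (by rw [h3]; exact sum_le_sum fun y _ => h1 y)
    exact card_le_sq_of_suborbit hG h2 c a hc
  · push Not at hall
    obtain ⟨w, y, hw, hwy, hy⟩ := hall
    have h1 : (univ.filter (r a)).card ≤ 3 * m := by
      have h3 : univ.filter (r a) ⊆ sepSet G a y := by
        intro c hc
        rw [mem_sepSet]
        rintro ⟨h, h1, h2⟩
        have h4 := (mem_filter.mp hc).2
        have h5 := hinv h _ _ h4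
        rw [h1, h2] at h5
        exact hy (Or.inr (Or.inr ⟨c, h4, hsymm _ _ h5⟩))
      have := card_le_card h3
      have := card_sepSet_le (G := G) a w y
      have := hR2 w hw
      have := hrm _ _ hwy
      omega
    have hsub : univ.erase a ⊆ (univ.filter (r a)).biUnion fun x => sepSet G a x := by
      intro c hc
      by_contra hn
      simp only [mem_biUnion, mem_filter, mem_univ, true_and, mem_sepSet, not_exists, not_and,
        not_forall, not_not] at hn
      have := closed_of_isPreprimitive hG r hinv hr0 ha.symm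
        (fun t => ∃ h : G, h • c = c ∧ h • a = t) (by
          rintro x z ⟨h, h1, rfl⟩ hz
          have h3 := hinv h⁻¹ _ _ hz
          rw [inv_smul_smul] at h3
          obtain ⟨k, hk1, hk2⟩ := hn _ h3
          exact ⟨h * k, by rw [mul_smul, hk1, h1], by rw [mul_smul, hk2, smul_inv_smul]⟩)
        ⟨1, one_smul _ _, one_smul _ _⟩ c
      obtain ⟨h, h1, h2⟩ := this
      exact ne_of_mem_erase hc (MulAction.injective h (h1.trans h2.symm))
    have h3 := (card_le_card hsub).trans (card_biUnion_le_card_mul _ _ m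
      (fun x hx => hrm _ _ (mem_filter.mp hx).2))
    rw [card_erase_of_mem (mem_univ _), card_univ] at h3
    have h4 := Nat.mul_le_mul_right m h1
    nlinarith [Nat.sub_add_cancel (Fintype.card_pos_iff.mpr ⟨a⟩ : 1 ≤ Fintype.card Ω)]

end SEP

variable {G Ω : Type} [Group G] [Finite G] [MulAction G Ω] [Finite Ω]

theorem sepD (hU : Uni G Ω) : SepD G Ω (dd (Nat.card Ω)) := by
  classical
  intro x y h
  have := Fintype.ofFinite Ω
  obtain ⟨g, rfl⟩ := hU.1.toIsPretransitive.exists_smul_eq x y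
  have e : sep G x (g • x) = ↑(H75.sepSet G x (g • x)) := Set.ext fun c => H75.mem_sepSet.symm
  have k := SEP.card_le hU.1 hU.2 h.symm le_rfl
  have p : 0 < Fintype.card Ω := Fintype.card_pos_iff.2 ⟨x⟩
  rw [e, Set.ncard_coe_finset, dd, Nat.card_eq_fintype_card]
  have := Nat.sqrt_lt'.2 (show Fintype.card Ω - 1 < (2 * (H75.sepSet G x (g • x)).card + 1) ^ 2 by omega)
  omega

end H98.LEN
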